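import Mathlib.GroupTheory.SpecificGroups.Quaternion
import Mathlib.Tactic.LinearCombination
import Mathlib.Tactic.Linarith
import Mathlib.Tactic.IntervalCases

set_option autoImplicit false

namespace Cfsg.Agent.H75

open QuaternionGroup

theorem zmod_two_mul_self (n : ℕ) : (n : ZMod (2 * n)) + n = 0 := by
  have : ((2 * n : ℕ) : ZMod (2 * n)) = 0 := ZMod.natCast_self _
  push_cast at this
  linear_combination this

theorem zmod_two_mul_eq_zero {n : ℕ} [NeZero n] {i : ZMod (2 * n)} (h : i + i = 0) :
    i = 0 ∨ i = n := by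
  have hn : 0 < n := Nat.pos_of_ne_zero (NeZero.ne n)
  have : NeZero (2 * n) := ⟨by omega⟩
  have hv := ZMod.val_lt i
  have h1 : ((i.val + i.val : ℕ) : ZMod (2 * n)) = 0 := by push_cast; simpa using h
  rw [ZMod.natCast_eq_zero_iff] at h1
  obtain ⟨k, hk⟩ := h1
  have hk2 : k < 2 := by nlinarith
  interval_cases k
  · left; rw [← ZMod.val_eq_zero]; omega
  · right
    have : i.val = n := by omega
    rw [← ZMod.natCast_zmod_val i, this]

theorem zmod_natCast_ne_zero {n : ℕ} [NeZero n] : (n : ZMod (2 * n)) ≠ 0 := by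
  have hn : 0 < n := Nat.pos_of_ne_zero (NeZero.ne n)
  rw [Ne, ZMod.natCast_eq_zero_iff]
  intro h
  have := Nat.le_of_dvd hn h
  omega

theorem quat_a_n_ne_one {n : ℕ} [NeZero n] : (a n : QuaternionGroup n) ≠ 1 := by
  rw [one_def]
  intro h
  exact zmod_natCast_ne_zero (a.inj h)

theorem quat_a_n_mul_self {n : ℕ} : (a n : QuaternionGroup n) * a n = 1 := by
  rw [a_mul_a, zmod_two_mul_self, one_def]

theorem quat_mul_self_eq_one {n : ℕ} [NeZero n] {y : QuaternionGroup n} (h : y * y = 1) :
    y = 1 ∨ y = a n := by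
  rcases y with i | i
  · rw [a_mul_a, one_def] at h
    rcases zmod_two_mul_eq_zero (a.inj h) with h | h
    · left; rw [h, one_def]
    · right; rw [h]
  · exfalso
    rw [xa_mul_xa, one_def] at h
    exact zmod_natCast_ne_zero (by simpa using a.inj h)

theorem quat_a_n_central {n : ℕ} (y : QuaternionGroup n) : y * a n = a n * y := by
  rcases y with i | i
  · simp [add_comm]
  · rw [xa_mul_a, a_mul_xa]
    congr 1
    linear_combination zmod_two_mul_self n

/-- An element commuting with two non-commuting elements has square one. -/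
theorem quat_mul_self_of_commute {n : ℕ} {x y c : QuaternionGroup n} (hxy : x * y ≠ y * x)
    (hx : c * x = x * c) (hy : c * y = y * c) : c * c = 1 := by
  have h2 := zmod_two_mul_self n
  rcases x with i | i <;> rcases y with j | j <;> rcases c with k | k <;>
    simp only [a_mul_a, a_mul_xa, xa_mul_a, xa_mul_xa, one_def, ne_eq, a.injEq, xa.injEq] at hxy hx hy ⊢
  · exact absurd (add_comm _ _) hxy
  · exact absurd (add_comm _ _) hxy
  · linear_combination -hy
  · exact absurd (by linear_combination -hx) hxy
  · linear_combination -hx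
  · exact absurd (by linear_combination hy) hxy
  · linear_combination -hx
  · exact absurd (by linear_combination hy - hx) hxy

theorem quat_exists_not_commute {n : ℕ} (hn : 2 ≤ n) :
    ∃ x y : QuaternionGroup n, x * y ≠ y * x := by
  refine ⟨a 1, xa 0, ?_⟩
  rw [a_mul_xa, xa_mul_a]
  intro h
  have h1 := xa.inj h
  have h2 : ((2 : ℕ) : ZMod (2 * n)) = 0 := by push_cast; linear_combination -h1
  rw [ZMod.natCast_eq_zero_iff] at h2
  have := Nat.le_of_dvd (by norm_num) h2
  omega

end Cfsg.Agent.H75
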